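import Groth.Agent.HTopHyper.HTor.BaseChange
import Groth.Agent.FrobLCI.GrInt.Main
import Groth.Agent.Calg6.DiagChi
import Groth.Agent.S6320
import Groth.Agent.CycInter.TorLocal
import Mathlib.RingTheory.Flat.Equalizer
import Mathlib.RingTheory.Localization.BaseChange
import Mathlib.RingTheory.QuasiFinite.Basic
import Mathlib.RingTheory.Ideal.GoingUp

/-!
The intersection number of a finite algebra as a sum over its maximal ideals.
-/

set_option autoImplicit false
set_option backward.isDefEq.respectTransparency false

universe u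

open TensorProduct IsLocalRing CategoryTheory

namespace Groth.Calg6.ProjFormula

variable {A : Type u} [CommRing A] (C : Type u) [CommRing C] [Algebra A C]

/-- Lengths of localised kernels. -/
theorem length_localized_ker {X Y : Type u} [AddCommGroup X] [Module A X] [AddCommGroup Y] [Module A Y]
    (v : X →ₗ[A] Y) (Q : Ideal C) [Q.IsPrime] (C' : Type u) [CommRing C'] [Algebra C C'] [Algebra A C']
    [IsScalarTower A C C'] [IsLocalization.AtPrime C' Q] :
    Groth.MilnorKLambda.Per.lq Q (LinearMap.ker (v.baseChange C)) =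
      Module.length C' (LinearMap.ker (v.baseChange C')) := by
  let c : ∀ (Z : Type u) [AddCommGroup Z] [Module A Z], C' ⊗[C] (C ⊗[A] Z) ≃ₗ[C'] C' ⊗[A] Z := fun Z _ _ =>
    AlgebraTensorModule.cancelBaseChange A C C' C' Z
  have hnat : ∀ z, c Y (((v.baseChange C).baseChange C') z) = v.baseChange C' (c X z) := fun z => by
    induction z using TensorProduct.induction_on with
    | zero => simp
    | add u w hu hw => simp only [map_add, hu, hw]
    | tmul a z =>
      induction z using TensorProduct.induction_on with
      | zero => simp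
      | add u w hu hw => simp only [TensorProduct.tmul_add, map_add, hu, hw]
      | tmul b x => simp [c]
  have hk : (LinearMap.ker ((v.baseChange C).baseChange C')).map (c X).toLinearMap =
      LinearMap.ker (v.baseChange C') := by
    ext z
    obtain ⟨z, rfl⟩ := (c X).surjective z
    rw [Submodule.mem_map_equiv, LinearEquiv.symm_apply_apply, LinearMap.mem_ker, LinearMap.mem_ker, ← hnat,
      LinearEquiv.map_eq_zero_iff]
  haveI : Module.Flat C C' := IsLocalization.flat C' Q.primeCompl
  rw [Groth.CycInter.TorLocal.lq_eq_length C C' Q]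
  let e₂ := LinearMap.tensorKerEquiv C' C' (v.baseChange C)
  let e₃ := LinearEquiv.ofSubmodules (c X) _ _ hk
  exact (e₂.trans e₃).length_eq

/-- Tor against a quotient of a flat algebra as a kernel over the quotient. -/
theorem length_tor_succ (S : Groth.HTorLib.Syz A) (B : Type u) [CommRing B] [Algebra A B] [Module.Flat A B]
    [Algebra B C] [IsScalarTower A B C] (hσ : Function.Surjective (algebraMap B C)) (p : ℕ) :
    Module.length B (DRing.Tor B (p + 1) C (B ⊗[A] S.N 0)) =
      Module.length C (LinearMap.ker ((S.u p).baseChange C)) := by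
  have hinj : ∀ k, Function.Injective ((S.u k).baseChange B) := fun k => by
    rw [LinearMap.baseChange_eq_ltensor]
    exact Module.Flat.lTensor_preserves_injective_linearMap _ (S.inj k)
  obtain ⟨e⟩ := (S.baseChange hinj).tor_succ (ModuleCat.of B C) p
  let c : ∀ (Z : Type u) [AddCommGroup Z] [Module A Z], C ⊗[B] (B ⊗[A] Z) ≃ₗ[C] C ⊗[A] Z := fun Z _ _ =>
    AlgebraTensorModule.cancelBaseChange A B C C Z
  have hnat : ∀ z, c (S.P p) (((S.u p).baseChange B).lTensor C z) = (S.u p).baseChange C (c (S.N (p + 1)) z) :=
    fun z => by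
    induction z using TensorProduct.induction_on with
    | zero => simp
    | add u w hu hw => simp only [map_add, hu, hw]
    | tmul a z =>
      induction z using TensorProduct.induction_on with
      | zero => simp
      | add u w hu hw => simp only [TensorProduct.tmul_add, map_add, hu, hw]
      | tmul b x => simp [c]
  let f : LinearMap.ker (((S.u p).baseChange B).lTensor C) ≃ₗ[B] LinearMap.ker ((S.u p).baseChange C) :=
    { toFun := fun z => ⟨c _ z.1, by rw [LinearMap.mem_ker, ← hnat, LinearMap.mem_ker.1 z.2, map_zero]⟩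
      invFun := fun z => ⟨(c _).symm z.1, by
        rw [LinearMap.mem_ker]
        apply (c (S.P p)).injective
        rw [hnat, LinearEquiv.apply_symm_apply, LinearMap.mem_ker.1 z.2, map_zero]⟩
      left_inv := fun z => Subtype.ext ((c _).symm_apply_apply z.1)
      right_inv := fun z => Subtype.ext ((c _).apply_symm_apply z.1)
      map_add' := fun a b => Subtype.ext (map_add (c _) a.1 b.1)
      map_smul' := fun r z => Subtype.ext ((c _).toLinearMap.map_smul_of_tower r z.1) }
  exact (e.trans f).length_eq.trans (Module.length_eq_of_surjective hσ)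

variable [IsLocalRing A] [IsNoetherianRing A] [Module.Finite A C]

theorem finite_maximalSpectrum (A : Type u) [CommRing A] [IsLocalRing A] (C : Type u) [CommRing C]
    [Algebra A C] [Module.Finite A C] : Finite (MaximalSpectrum C) := by
  have h : ((maximalIdeal A).primesOver C).Finite := Algebra.QuasiFinite.finite_primesOver (maximalIdeal A)
  haveI := h.to_subtype
  refine Finite.of_injective (β := (maximalIdeal A).primesOver C) (fun n => ⟨n.asIdeal, inferInstance,
    ⟨(IsLocalRing.eq_maximalIdeal (Ideal.isMaximal_comap_of_isIntegral_of_isMaximal n.asIdeal)).symm⟩⟩)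
    fun a b h => MaximalSpectrum.ext (congrArg (fun q => (q.1 : Ideal C)) h)

/-- The intersection number against a finite algebra, through the local rings of the algebra. -/
theorem chi_eq_sum [Fintype (MaximalSpectrum C)] (N : Type u) [AddCommGroup N] [Module A N] [Module.Finite A N]
    (hfl : IsFiniteLength A (C ⊗[A] N)) (L : ℕ) (hL : ∀ i, L < i → Subsingleton (DRing.Tor A i C N))
    (deg : MaximalSpectrum C → ℕ) (cval : MaximalSpectrum C → ℤ)
    (hdeg : ∀ n : MaximalSpectrum C,
      deg n = (Module.length A (C ⧸ n.asIdeal)).toNat)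
    (hval : ∀ n : MaximalSpectrum C, ∃ (C' : Type u) (_ : CommRing C') (_ : Algebra C C') (_ : Algebra A C')
      (_ : IsScalarTower A C C') (_ : IsLocalization.AtPrime C' n.asIdeal) (B : Type u) (_ : CommRing B)
      (_ : Algebra A B) (_ : Module.Flat A B) (_ : Algebra B C') (_ : IsScalarTower A B C'),
      Function.Surjective (algebraMap B C') ∧ cval n = IntMult.chi B C' (B ⊗[A] N)) :
    IntMult.chi A C N = ∑ n, (deg n : ℤ) * cval n := by
  let S := Groth.HTorLib.Syz.free (ModuleCat.of A N)
  -- the modules over the finite algebra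
  have key : ∀ i, ∃ (W : Type u) (_ : AddCommGroup W) (_ : Module C W) (_ : Module A W) (_ : IsScalarTower A C W),
      Nonempty (DRing.Tor A i C N ≃ₗ[A] W) ∧ ∀ (n : MaximalSpectrum C) (C' : Type u) [CommRing C'] [Algebra C C']
        [Algebra A C'] [IsScalarTower A C C'] [IsLocalization.AtPrime C' n.asIdeal] (B : Type u) [CommRing B]
        [Algebra A B] [Module.Flat A B] [Algebra B C'] [IsScalarTower A B C'],
        Function.Surjective (algebraMap B C') →
          Module.length B (DRing.Tor B i C' (B ⊗[A] N)) = Groth.MilnorKLambda.Per.lq n.asIdeal W := by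
    intro i
    cases i with
    | zero =>
      obtain ⟨e₀⟩ := Groth.HTorLib.tor_zero_equiv (A := A) C N
      refine ⟨C ⊗[A] N, inferInstance, inferInstance, inferInstance, inferInstance, ⟨e₀⟩,
        fun n C' _ _ _ _ _ B _ _ _ _ _ hσ => ?_⟩
      obtain ⟨e₁⟩ := Groth.HTorLib.tor_zero_equiv (A := B) C' (B ⊗[A] N)
      rw [e₁.length_eq, Groth.CycInter.TorLocal.lq_eq_length C C' n.asIdeal,
        (AlgebraTensorModule.cancelBaseChange A C C' C' N).length_eq,
        ((AlgebraTensorModule.cancelBaseChange A B C' C' N).restrictScalars B).length_eq]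
      exact Module.length_eq_of_surjective hσ
    | succ p =>
      obtain ⟨e₀⟩ := S.tor_succ (ModuleCat.of A C) p
      let g : LinearMap.ker ((S.u p).lTensor C) ≃ₗ[A] LinearMap.ker ((S.u p).baseChange C) :=
        { toFun := fun z => ⟨z.1, z.2⟩
          invFun := fun z => ⟨z.1, z.2⟩
          left_inv := fun _ => rfl
          right_inv := fun _ => rfl
          map_add' := fun _ _ => rfl
          map_smul' := fun _ _ => rfl }
      refine ⟨LinearMap.ker ((S.u p).baseChange C), inferInstance, inferInstance, inferInstance, inferInstance,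
        ⟨e₀.trans g⟩, fun n C' _ _ _ _ _ B _ _ _ _ _ hσ => ?_⟩
      rw [length_localized_ker C (S.u p) n.asIdeal C']
      exact length_tor_succ C' S B hσ p
  choose W iW₁ iW₂ iW₃ iW₄ hW using key
  let l : MaximalSpectrum C → ℕ → ℕ∞ := fun n i => Groth.MilnorKLambda.Per.lq n.asIdeal (W i)
  have hover : ∀ n : MaximalSpectrum C, n.asIdeal.comap (algebraMap A C) = maximalIdeal A := fun n =>
    IsLocalRing.eq_maximalIdeal (Ideal.isMaximal_comap_of_isIntegral_of_isMaximal n.asIdeal)
  have hfinite : ∀ n : MaximalSpectrum C,
      Module.Finite (A ⧸ n.asIdeal.comap (algebraMap A C)) (C ⧸ n.asIdeal) := fun n =>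
    Module.Finite.of_restrictScalars_finite A _ _
  have hA : ∀ i, IsFiniteLength A (W i) := fun i => by
    obtain ⟨⟨e⟩, -⟩ := hW i
    rw [← Module.length_ne_top_iff, ← e.length_eq, Module.length_ne_top_iff]
    exact Groth.GrInt.isFiniteLength_tor hfl i
  have hC : ∀ i, IsFiniteLength C (W i) := fun i => by
    rw [← Module.length_ne_top_iff]
    refine ne_top_of_le_ne_top (Module.length_ne_top_iff.2 (hA i)) ?_
    rw [← Module.length_top (R := C) (M := W i), ← Module.length_top (R := A) (M := W i)]
    exact (Submodule.length_le_length_restrictScalars A (⊤ : Submodule C (W i))).trans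
      (le_of_eq (by rw [Submodule.restrictScalars_top]))
  have hlen : ∀ i, Module.length A (DRing.Tor A i C N) = ∑ n, (deg n : ℕ∞) * l n i := fun i => by
    obtain ⟨⟨e⟩, -⟩ := hW i
    haveI := finite_maximalSpectrum A C
    rw [e.length_eq, Groth.Agent.S6320.result (A := A) (B := C) hover hfinite (W i) (hC i),
      finsum_eq_sum_of_fintype]
    refine Finset.sum_congr rfl fun n _ => ?_
    rw [hdeg]
    have hm : (n.asIdeal.comap (algebraMap A C)).IsMaximal := hover n ▸ IsLocalRing.maximalIdeal.isMaximal A
    let := Ideal.Quotient.field (n.asIdeal.comap (algebraMap A C))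
    have := hfinite n
    rw [Module.length_eq_of_surjective (S := A) (R := A ⧸ n.asIdeal.comap (algebraMap A C))
      (M := C ⧸ n.asIdeal) Ideal.Quotient.mk_surjective, Module.length_eq_finrank, ENat.toNat_coe]
    rfl
  have hl : ∀ n i, l n i ≠ ⊤ := fun n i =>
    ne_top_of_le_ne_top (Module.length_ne_top_iff.2 (hC i)) (Groth.Agent.S6312.result _ _)
  have hzero : ∀ n i, L < i → (l n i).toNat = 0 := fun n i hi => by
    haveI := hL i hi
    obtain ⟨⟨e⟩, -⟩ := hW i
    haveI : Subsingleton (W i) := e.symm.injective.subsingleton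
    rw [ENat.toNat_eq_zero]
    exact Or.inl (le_antisymm ((Groth.Agent.S6312.result _ _).trans (le_of_eq Module.length_eq_zero)) bot_le)
  have hleft : IntMult.chi A C N =
      ∑ i ∈ Finset.range (L + 1), ∑ n, (-1 : ℤ) ^ i * ((deg n : ℤ) * ((l n i).toNat : ℤ)) := by
    rw [IntMult.chi, finsum_eq_sum_of_support_subset _ (s := Finset.range (L + 1)) fun i hi => ?_]
    · refine Finset.sum_congr rfl fun i _ => ?_
      rw [hlen i, ENat.toNat_sum fun n _ => WithTop.mul_ne_top (ENat.coe_ne_top _) (hl n i), Nat.cast_sum,
        Finset.mul_sum]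
      refine Finset.sum_congr rfl fun n _ => ?_
      rw [ENat.toNat_mul, ENat.toNat_coe, Nat.cast_mul]
    · simp only [Finset.coe_range, Set.mem_Iio]
      by_contra hc
      haveI := hL i (by omega)
      exact hi (by simp [Module.length_eq_zero])
  rw [hleft, Finset.sum_comm]
  refine Finset.sum_congr rfl fun n _ => ?_
  obtain ⟨C', iC₁, iC₂, iC₃, iC₄, iC₅, B, iB₁, iB₂, iB₃, iB₄, iB₅, hσ, hc⟩ := hval n
  rw [hc, IntMult.chi, finsum_eq_sum_of_support_subset _ (s := Finset.range (L + 1)) fun i hi => ?_,
    Finset.mul_sum]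
  · refine Finset.sum_congr rfl fun i _ => ?_
    rw [(hW i).2 n C' B hσ]
    ring
  · simp only [Finset.coe_range, Set.mem_Iio]
    by_contra hc
    refine hi ?_
    change _ * _ = 0
    rw [(hW i).2 n C' B hσ, hzero n i (by omega), Nat.cast_zero, mul_zero]

end Groth.Calg6.ProjFormula
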