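import Groth.Agent.S6470
import Groth.Agent.Calg6.ChiFormula
import Groth.Agent.EtaleAlgebra.EtaleCriterion

/-!
Intersection numbers at a point through the top points of the supports, one variable at a time.
-/

set_option autoImplicit false

universe u

open CategoryTheory CategoryTheory.Limits AlgebraicGeometry IsLocalRing

namespace Groth.Calg6.ProjFormula

variable {X : Scheme.{u}}

/-- A module supported on the closure of one point counts as a multiple of its quotient. -/
theorem chi_eq_lq_mul {K : Type u} [Field K] (f : X ⟶ Spec (CommRingCat.of K)) [Smooth f] [IsIntegral X]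
    {δ : X → ℤ} (hX : Cyc.IsSetup X δ) (hδ : Cyc.DeltaCompat f δ (fun _ => 0)) {n : ℤ}
    (hn : δ (genericPoint X) = n) {a ζ : X} (ha : a ⤳ ζ) (s : ℤ)
    (M N : Type u) [AddCommGroup M] [Module (X.presheaf.stalk ζ) M] [Module.Finite (X.presheaf.stalk ζ) M]
    [AddCommGroup N] [Module (X.presheaf.stalk ζ) N] [Module.Finite (X.presheaf.stalk ζ) N]
    (hM : ∀ p ∈ Module.support (X.presheaf.stalk ζ) M, (Groth.Cycles.genPrime ha).asIdeal ≤ p.asIdeal)
    (hN : ∀ p ∈ Module.support (X.presheaf.stalk ζ) N, δ (X.fromSpecStalk ζ p) ≤ s)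
    (hdim : δ a + s ≤ δ ζ + n)
    (hmeet : ∀ p ∈ Module.support (X.presheaf.stalk ζ) N, (Groth.Cycles.genPrime ha).asIdeal ≤ p.asIdeal →
      δ (X.fromSpecStalk ζ p) ≤ δ ζ) :
    IntMult.chi (X.presheaf.stalk ζ) M N =
      ((Groth.MilnorKLambda.Per.lq (Groth.Cycles.genPrime ha).asIdeal M).toNat : ℤ) *
        IntMult.chi (X.presheaf.stalk ζ) (X.presheaf.stalk ζ ⧸ (Groth.Cycles.genPrime ha).asIdeal) N := by
  have hδh := Groth.Agent.S6470.delta_eq_height f δ hδ
  obtain ⟨h, hh, hhδ⟩ := hδh ζ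
  -- a chart
  obtain ⟨U₀, hU₀, U, hU, hxU, hle, hstd⟩ := Smooth.exists_isStandardSmooth f ζ
  obtain rfl : U₀ = ⊤ := top_le_iff.1 fun z _ => (Subsingleton.elim (f ζ) z) ▸ hle hxU
  let φ : K →+* Γ(X, U) := (f.appLE ⊤ U hle).hom.comp (Scheme.ΓSpecIso (CommRingCat.of K)).inv.hom
  have hφ : φ.IsStandardSmooth := RingHom.isStandardSmooth_respectsIso.2 _
    (Scheme.ΓSpecIso (CommRingCat.of K)).commRingCatIsoToRingEquiv.symm hstd
  obtain ⟨n', g, hg, hget⟩ := hφ.exists_etale_mvPolynomial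
  letI : Algebra K Γ(X, U) := φ.toAlgebra
  letI : Algebra (MvPolynomial (Fin n') K) Γ(X, U) := g.toAlgebra
  haveI : IsScalarTower K (MvPolynomial (Fin n') K) Γ(X, U) := IsScalarTower.of_algebraMap_eq' hg.symm
  haveI : Algebra.Etale (MvPolynomial (Fin n') K) Γ(X, U) := hget
  haveI : Algebra.FiniteType K Γ(X, U) :=
    Algebra.FiniteType.trans (S := MvPolynomial (Fin n') K) inferInstance inferInstance
  haveI : IsOpenImmersion hU.fromSpec := hU.isOpenImmersion_fromSpec
  have hht : ∀ (x : X) (hx : x ∈ U), ringKrullDim (Γ(X, U) ⧸ (hU.primeIdealOf ⟨x, hx⟩).asIdeal) =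
      ((Order.height x : ℕ∞) : WithBot ℕ∞) := fun x hx => by
    rw [← Groth.FibreDim.height_spec_eq (S := Γ(X, U)) (hU.primeIdealOf ⟨x, hx⟩),
      ← Groth.Variety2.Dim.height_eq_of_isPreimmersion (hU.fromSpec ≫ f) f hU.fromSpec rfl
        (hU.primeIdealOf ⟨x, hx⟩), hU.fromSpec_primeIdealOf]
  have hn' : n ≤ (n' : ℤ) := by
    obtain ⟨N, hN, hNδ⟩ := hδh (genericPoint X)
    have hmem : genericPoint X ∈ U := (genericPoint_specializes ζ).mem_open U.2 hxU
    have h1 := hht _ hmem
    rw [hN] at h1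
    have h2 : ringKrullDim Γ(X, U) ≤ (n' : WithBot ℕ∞) := by
      rw [ringKrullDim_le_iff_isMaximal_height_le]
      intro M hM
      rw [← IsLocalization.AtPrime.ringKrullDim_eq_height M (Localization.AtPrime M),
        Groth.Agent.EtaleAlgebra.EtaleCriterion.ringKrullDim_atPrime_of_etale (k := K) (n := n') M]
    have h3 : (N : WithBot ℕ∞) ≤ (n' : WithBot ℕ∞) := by
      refine le_trans (le_of_eq ?_) ((ringKrullDim_quotient_le (hU.primeIdealOf ⟨genericPoint X, hmem⟩).asIdeal).trans h2)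
      exact h1.symm
    rw [← hn, hNδ]
    exact_mod_cast h3
  letI : Algebra Γ(X, U) (X.presheaf.stalk ζ) := (X.presheaf.germ U ζ hxU).hom.toAlgebra
  haveI : IsLocalization.AtPrime (X.presheaf.stalk ζ) (hU.primeIdealOf ⟨ζ, hxU⟩).asIdeal :=
    hU.isLocalization_stalk ⟨ζ, hxU⟩
  -- points
  let A := X.presheaf.stalk ζ
  let pt : PrimeSpectrum A → X := fun p => X.fromSpecStalk ζ p
  have hpt : ∀ p, pt p ⤳ ζ := fun p => Scheme.range_fromSpecStalk.le ⟨p, rfl⟩
  have hptinj : Function.Injective pt := (X.fromSpecStalk ζ).isEmbedding.injective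
  let D : PrimeSpectrum A → ℕ := fun p => (δ (pt p)).toNat
  have hDδ : ∀ p, ((D p : ℕ) : ℤ) = δ (pt p) := fun p => by
    obtain ⟨a, -, ha⟩ := hδh (pt p)
    simp only [D, ha, Int.toNat_natCast]
  have hD : ∀ p q : PrimeSpectrum A, p < q → D q < D p := fun p q hpq => by
    have hs' : pt p ⤳ pt q := ((PrimeSpectrum.le_iff_specializes p q).1 hpq.le).map (X.fromSpecStalk ζ).continuous
    have := (hX.2.2 (pt p) (pt q) hs' fun e => hpq.ne (hptinj e)).1
    rw [← hDδ, ← hDδ] at this
    exact_mod_cast this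
  have hDdim : ∀ p : PrimeSpectrum A,
      ringKrullDim (Γ(X, U) ⧸ p.asIdeal.comap (algebraMap Γ(X, U) (X.presheaf.stalk ζ))) = D p := fun p => by
    have hp : p.asIdeal.comap (algebraMap Γ(X, U) (X.presheaf.stalk ζ)) =
        (hU.primeIdealOf ⟨pt p, (hpt p).mem_open U.2 hxU⟩).asIdeal := by
      conv_lhs => rw [← Groth.Cycles.genPrime_fromSpecStalk p (hpt p)]
      exact Groth.Agent.S6470.comap_genPrime hU hxU (hpt p)
    rw [ringKrullDim_eq_of_ringEquiv (Ideal.quotEquivOfEq hp), hht]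
    obtain ⟨a, ha, ha'⟩ := hδh (pt p)
    rw [ha, show D p = a by simp only [D, ha', Int.toNat_natCast]]
    rfl
  have hmax : ∀ p : PrimeSpectrum A, δ (pt p) ≤ δ ζ → p.asIdeal = maximalIdeal A := fun p hp => by
    by_contra hne
    have := hD _ (IsLocalRing.closedPoint A)
      (lt_of_le_of_ne (IsLocalRing.le_maximalIdeal p.isPrime.ne_top) fun e => hne (congrArg PrimeSpectrum.asIdeal e))
    have e1 := hDδ p
    have e2 := hDδ (IsLocalRing.closedPoint A)
    have e3 : pt (IsLocalRing.closedPoint A) = ζ := Scheme.fromSpecStalk_closedPoint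
    rw [e3] at e2
    omega
  haveI : IsNoetherianRing A :=
    IsLocalization.isNoetherianRing (hU.primeIdealOf ⟨ζ, hxU⟩).asIdeal.primeCompl _
      (Algebra.FiniteType.isNoetherianRing K Γ(X, U))
  by_cases hs : 0 ≤ s
  swap
  · haveI : Subsingleton N := by
      rw [← Module.support_eq_empty_iff (R := A), Set.eq_empty_iff_forall_notMem]
      intro p hp
      have := hN p hp
      have : ((D p : ℕ) : ℤ) = δ (X.fromSpecStalk ζ p) := hDδ p
      omega
    rw [Groth.Calg6.Diag.intMult_chi_symm, Groth.Agent.S6470.chi_of_subsingleton,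
      Groth.Calg6.Diag.intMult_chi_symm, Groth.Agent.S6470.chi_of_subsingleton, mul_zero]
  obtain ⟨r, -, hr⟩ := hδh a
  let pa := Groth.Cycles.genPrime ha
  have hpa : pt pa = a := Groth.Cycles.fromSpecStalk_genPrime ha
  have hDa : D pa = r := by
    have := hDδ pa
    rw [hpa] at this
    omega
  have hDle : ∀ p : PrimeSpectrum A, pa.asIdeal ≤ p.asIdeal → D p ≤ r := fun p hp => by
    rcases eq_or_lt_of_le (show pa ≤ p from hp) with e | hlt
    · exact e ▸ hDa.le
    · exact (hD pa p hlt).le.trans hDa.le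
  let c : PrimeSpectrum A → ℤ := fun p =>
    ∑ᶠ q, Groth.Calg6.DevissageSum.F D s.toNat (fun q => IntMult.chi A (A ⧸ q.asIdeal) (A ⧸ p.asIdeal)) N q
  have key : ∀ (M : Type u) [AddCommGroup M] [Module A M] [Module.Finite A M],
      (∀ p ∈ Module.support A M, pa.asIdeal ≤ p.asIdeal) →
      IntMult.chi A M N = ((Groth.MilnorKLambda.Per.lq pa.asIdeal M).toNat : ℤ) * c pa := by
    intro M _ _ _ hM
    rw [Groth.Calg6.Diag.intMult_chi_eq_finsum (k := K) (n := n') (hU.primeIdealOf ⟨ζ, hxU⟩).asIdeal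
      M N D hD (h := h) (r := r) (s := s.toNat) (by rw [hht, hh]; rfl) hDdim (by omega)
      (fun p hp => hDle p (hM p hp)) (fun p hp => by
        have := hN p hp
        have : ((D p : ℕ) : ℤ) = δ (X.fromSpecStalk ζ p) := hDδ p
        omega)
      fun p hp hp' => hmax p (hmeet p hp' (hM p hp))]
    rw [finsum_eq_single _ pa fun q hq => ?_]
    · simp only [Groth.Calg6.DevissageSum.F, if_pos hDa, c]
    · simp only [Groth.Calg6.DevissageSum.F]
      split_ifs with hq'
      · rw [Groth.MilnorKLambda.Per.lq_eq_zero_of_notMem]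
        · simp
        · intro hm
          have hlt : pa < q := lt_of_le_of_ne (hM q hm) (Ne.symm hq)
          have := hD pa q hlt
          omega
      · rfl
  rw [key M hM, key (A ⧸ pa.asIdeal) fun p hp => Groth.TopPrimeCount.mem_support_quot.1 hp,
    Groth.MilnorKLambda.Per.lq_quot_self, ENat.toNat_one, Nat.cast_one, one_mul]

end Groth.Calg6.ProjFormula
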