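import Groth.Agent.Calg6.ProjFormula.Points
import Groth.Agent.Calg6.ProjFormula.Chart
import Groth.Agent.Calg6.ProjFormula.Alg
import Groth.Agent.Calg6.CycleLinear
import Groth.Agent.Calg6.StalkSupport
import Groth.Agent.CycInter.EulerChi
import Groth.Agent.CycInter.SectProd
import Groth.Agent.Cycles.DimFunLft
import Groth.Agent.Cycles.PullSheaf
import Groth.Agent.Cycles.PushCyc
import Groth.Agent.Cycles.PushDiv
import Groth.Agent.QCohMod.PullbackQCoh
import Groth.Agent.VarietyBC.SmoothChart
import Mathlib.AlgebraicGeometry.ZariskisMainTheorem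

/-!
The projection formula for a pair of point closures at one point of the base.
-/

set_option autoImplicit false
set_option backward.isDefEq.respectTransparency false
set_option linter.style.haveILetI false

universe u

open CategoryTheory CategoryTheory.Limits AlgebraicGeometry IsLocalRing TensorProduct

namespace Groth.Calg6.ProjFormula

variable {X Y : Scheme.{u}}

/-- The local structure of the stalk of the structure sheaf of a point closure. -/
theorem closure_stalk [IsLocallyNoetherian X] {a x : X} (h : a ⤳ x) :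
    (∀ p ∈ Module.support (X.presheaf.stalk x) ((Cyc.closureStructureSheaf a).presheaf.stalk x),
      (Groth.Cycles.genPrime h).asIdeal ≤ p.asIdeal) ∧
    (Groth.MilnorKLambda.Per.lq (Groth.Cycles.genPrime h).asIdeal
      ((Cyc.closureStructureSheaf a).presheaf.stalk x)).toNat = 1 := by
  haveI := (Groth.KTheory.Devissage.isCoh_closureStructureSheaf a).1
  refine ⟨fun p hp => ?_, ?_⟩
  · have hp' : X.fromSpecStalk x p ⤳ x := Scheme.range_fromSpecStalk.le ⟨p, rfl⟩
    rw [← Groth.Cycles.genPrime_fromSpecStalk p hp', Groth.Calg6.StalkSupport.genPrime_mem_support_iff] at hp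
    have hmem := Groth.KTheory.Devissage.support_closureStructureSheaf_subset a
      (not_subsingleton_iff_nontrivial.2 hp)
    refine (PrimeSpectrum.le_iff_specializes (Groth.Cycles.genPrime h) p).2 ?_
    refine ((X.fromSpecStalk x).isEmbedding.isInducing.specializes_iff
      (x := Groth.Cycles.genPrime h) (y := p)).1 ?_
    rw [Groth.Cycles.fromSpecStalk_genPrime]
    exact specializes_iff_mem_closure.2 hmem
  · rw [Groth.Calg6.StalkSupport.lq_stalk _ h, Groth.KTheory.Devissage.length_closureStructureSheaf]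
    rfl

theorem specializes_of_le {a x : X} (h : a ⤳ x) (p : PrimeSpectrum (X.presheaf.stalk x))
    (hp : (Groth.Cycles.genPrime h).asIdeal ≤ p.asIdeal) : a ⤳ X.fromSpecStalk x p := by
  have h1 := ((PrimeSpectrum.le_iff_specializes (Groth.Cycles.genPrime h) p).1 hp).map
    (X.fromSpecStalk x).continuous
  rwa [Groth.Cycles.fromSpecStalk_genPrime] at h1

/-- The local term upstairs, in the form needed downstairs. -/
theorem exists_local_term {W : Scheme.{u}} [IsIntegral W] (i : W ⟶ X) [IsClosedImmersion i] (f : X ⟶ Y) [Flat f]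
    (G : Y.Modules) (y : Y) (w : W) (hw : f (i w) = y) (h : i (genericPoint W) ⤳ i w)
    (C : Type u) [CommRing C] [Algebra (Y.presheaf.stalk y) C] (Q : Ideal C) [Q.IsPrime]
    (g : C →+* W.presheaf.stalk w) (hloc : letI := g.toAlgebra; IsLocalization.AtPrime (W.presheaf.stalk w) Q)
    (hg : g.comp (algebraMap (Y.presheaf.stalk y) C) =
      ((i ≫ f).stalkMap w).hom.comp (Y.presheaf.stalkSpecializes (specializes_of_eq hw)).hom) :
    ∃ (C' : Type u) (_ : CommRing C') (_ : Algebra C C') (_ : Algebra (Y.presheaf.stalk y) C')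
      (_ : IsScalarTower (Y.presheaf.stalk y) C C') (_ : IsLocalization.AtPrime C' Q) (B : Type u) (_ : CommRing B)
      (_ : Algebra (Y.presheaf.stalk y) B) (_ : Module.Flat (Y.presheaf.stalk y) B) (_ : Algebra B C')
      (_ : IsScalarTower (Y.presheaf.stalk y) B C'),
      Function.Surjective (algebraMap B C') ∧
        IntMult.chi (X.presheaf.stalk (i w)) (X.presheaf.stalk (i w) ⧸ (Groth.Cycles.genPrime h).asIdeal)
            (((Scheme.Modules.pullback f).obj G).presheaf.stalk (i w)) =
          IntMult.chi B C' (B ⊗[Y.presheaf.stalk y] G.presheaf.stalk y) := by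
  subst hw
  let C' := W.presheaf.stalk w
  letI : Algebra C C' := g.toAlgebra
  haveI : IsLocalization.AtPrime C' Q := hloc
  letI : Algebra (Y.presheaf.stalk (f (i w))) C' := ((i ≫ f).stalkMap w).hom.toAlgebra
  haveI : IsScalarTower (Y.presheaf.stalk (f (i w))) C C' := IsScalarTower.of_algebraMap_eq fun a => by
    change ((i ≫ f).stalkMap w).hom a = g (algebraMap _ C a)
    rw [← RingHom.comp_apply, hg, TopCat.Presheaf.stalkSpecializes_refl]
    rfl
  letI := Groth.QCohMod.stalkAlg f (i w)
  haveI : Module.Flat (Y.presheaf.stalk (f (i w))) (X.presheaf.stalk (i w)) := Flat.stalkMap f (i w)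
  letI : Algebra (X.presheaf.stalk (i w)) C' := (i.stalkMap w).hom.toAlgebra
  haveI : IsScalarTower (Y.presheaf.stalk (f (i w))) (X.presheaf.stalk (i w)) C' :=
    IsScalarTower.of_algebraMap_eq fun a => by
      change ((i ≫ f).stalkMap w).hom a = (i.stalkMap w).hom ((f.stalkMap (i w)).hom a)
      rw [Scheme.Hom.stalkMap_comp]
      rfl
  have hsurj : Function.Surjective (algebraMap (X.presheaf.stalk (i w)) C') := i.stalkMap_surjective w
  refine ⟨C', inferInstance, inferInstance, inferInstance, inferInstance, inferInstance, X.presheaf.stalk (i w),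
    inferInstance, inferInstance, inferInstance, inferInstance, inferInstance, hsurj, ?_⟩
  have hker : (Groth.Cycles.genPrime h).asIdeal = LinearMap.ker (Algebra.linearMap (X.presheaf.stalk (i w)) C') := by
    rw [Groth.CycInter.SectProd.genPrime_closedImm i w h, ← Groth.Calg6.ClosedImmStalk.ker_stalkMap_eq i w]
    rfl
  rw [Groth.Calg6.Diag.intMult_chi_congr_left ((Submodule.quotEquivOfEq _ _ hker).trans
      ((Algebra.linearMap (X.presheaf.stalk (i w)) C').quotKerEquivOfSurjective hsurj)),
    Groth.Calg6.Diag.intMult_chi_symm,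
    ← Groth.Calg6.Diag.intMult_chi_congr_left (Groth.QCohMod.pullStalkEquiv f G (i w)),
    Groth.Calg6.Diag.intMult_chi_symm]

/-- Projection formula for two point closures at a point of the expected dimension. -/
theorem pair {K : Type u} [Field K] (f : X ⟶ Y) (gX : X ⟶ Spec (CommRingCat.of K)) (gY : Y ⟶ Spec (CommRingCat.of K))
    [Smooth gX] [IsIntegral X] [Smooth gY] [IsIntegral Y] [Flat f] [IsProper f] {δX : X → ℤ} {δY : Y → ℤ}
    (hX : Cyc.IsSetup X δX) (hY : Cyc.IsSetup Y δY) (hδX : Cyc.DeltaCompat gX δX (fun _ => 0))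
    (hδY : Cyc.DeltaCompat gY δY (fun _ => 0)) (hδ : Cyc.DeltaCompat f δX δY) {n m : ℤ}
    (hn : δX (genericPoint X) = n) (hm : δY (genericPoint Y) = m) {e : ℕ} (he : (e : ℤ) = n - m)
    (hle : ∀ x : X, δX x ≤ δY (f x) + e) {a : X} {b : Y}
    (hmeet : ∀ x : X, a ⤳ x → b ⤳ f x → δX x ≤ δX a + δY b - m)
    {ζ : Y} (hζ : δY ζ = δX a + δY b - m) (hbζ : b ⤳ ζ) (hfa : f a ⤳ ζ) :
    δY (f a) = δX a ∧ ∃ T : Finset X, (∀ z, z ∈ T ↔ (a ⤳ z ∧ f z = ζ)) ∧
      ∑ z ∈ T, (f.residueDegree z : ℤ) * IntMult.chi (X.presheaf.stalk z)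
          ((Cyc.closureStructureSheaf a).presheaf.stalk z)
          (((Scheme.Modules.pullback f).obj (Cyc.closureStructureSheaf b)).presheaf.stalk z) =
        (f.residueDegree a : ℤ) * IntMult.chi (Y.presheaf.stalk ζ)
          ((Cyc.closureStructureSheaf (f a)).presheaf.stalk ζ)
          ((Cyc.closureStructureSheaf b).presheaf.stalk ζ) := by
  classical
  haveI := hX.1
  haveI := hY.1
  obtain ⟨W, i, _, _, _, hir, hiη⟩ := Groth.Cycles.closure_scheme a
  haveI : IsIntegral W := isIntegral_of_irreducibleSpace_of_isReduced W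
  subst hiη
  set η := genericPoint W with hη
  let q := i ≫ f
  haveI : IsLocallyNoetherian W := LocallyOfFiniteType.isLocallyNoetherian i
  have hgen : ∀ w, i η ⤳ i w := fun w => (genericPoint_specializes w).map i.continuous
  have hrange : ∀ x : X, i η ⤳ x → ∃ w, i w = x := fun x hx => hir.ge (specializes_iff_mem_closure.1 hx)
  have hδw : ∀ w : W, q w = ζ → δX (i w) = δX (i η) + δY b - m := fun w hw => by
    have h1 : f (i w) = ζ := hw
    have h2 := hmeet (i w) (hgen w) (h1.symm ▸ hbζ)
    have h3 := Groth.Cycles.delta_le_of_deltaCompat hδ (i w)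
    rw [h1, hζ] at h3
    omega
  -- the fibre is finite
  have hfinite : (q ⁻¹' {ζ}).Finite := by
    haveI : IsLocallyNoetherian (q.fiber ζ) := LocallyOfFiniteType.isLocallyNoetherian (q.fiberToSpecResidueField ζ)
    haveI : IsNoetherian (q.fiber ζ) := {}
    have hmax : ∀ z : q.fiber ζ, IsMax z := fun z z' hzz' => by
      have hs : z' ⤳ z := hzz'
      have hs' := (hs.map (q.fiberι ζ).continuous).map i.continuous
      have e1 := hδw _ (Groth.FibreDim.apply_fiberι q ζ z)
      have e2 := hδw _ (Groth.FibreDim.apply_fiberι q ζ z')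
      have := Groth.Cycles.eq_of_specializes_of_delta_le hX.2.2 hs' (by omega)
      exact (specializes_of_eq ((q.fiberι ζ).isEmbedding.injective (i.isEmbedding.injective this.symm)) : z ⤳ z')
    rw [← q.range_fiberι ζ, ← Set.image_univ]
    exact ((Groth.Cycles.finite_setOf_isMax (X := q.fiber ζ)).subset fun z _ => hmax z).image _
  obtain ⟨V, hV, hζV, hfinV⟩ : ∃ V : Y.Opens, IsAffineOpen V ∧ ζ ∈ V ∧ IsFinite (q ∣_ V) := by
    obtain ⟨V', hyW, hW'⟩ := exists_isFinite_morphismRestrict_of_finite_preimage_singleton q ζ hfinite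
    obtain ⟨_, ⟨V, hV, rfl⟩, hyV, hVW⟩ :=
      Y.isBasis_affineOpens.exists_subset_of_mem_open (show ζ ∈ (V' : Set Y) from hyW) V'.isOpen
    refine ⟨V, hV, hyV, ?_⟩
    haveI := hW'
    have h1 : IsFinite ((q ∣_ V') ∣_ (V'.ι ⁻¹ᵁ V)) := inferInstance
    have h2 := (MorphismProperty.arrow_mk_iso_iff @IsFinite (morphismRestrictRestrict q V' _)).mp h1
    have h3 : V'.ι ''ᵁ (V'.ι ⁻¹ᵁ V) = V := by
      rw [Scheme.Hom.image_preimage_eq_opensRange_inf, Scheme.Opens.opensRange_ι]
      exact inf_eq_right.mpr hVW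
    rwa [h3] at h2
  have hηV : q η ∈ V := hfa.mem_open V.2 hζV
  have hres : ∀ w, q.residueDegree w = f.residueDegree (i w) := fun w => by
    have h1 : i.residueDegree w = 1 := by
      letI := (i.residueFieldMap w).hom.toAlgebra
      have hb : Function.Bijective (algebraMap (X.residueField (i w)) (W.residueField w)) :=
        Groth.Cycles.residueFieldMap_bijective i w
      exact (LinearEquiv.finrank_eq (LinearEquiv.ofBijective (Algebra.linearMap (X.residueField (i w))
        (W.residueField w)) hb)).symm.trans (Module.finrank_self _)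
    rw [show q.residueDegree w = f.residueDegree (i w) * i.residueDegree w from
      Groth.Cycles.residueDegree_comp i f w, h1, mul_one]
  -- generic finiteness
  have hdim : δY (f (i η)) = δX (i η) := by
    obtain ⟨C, _, _, _, -, -, e₁, he₁⟩ := exists_semilocal q hV hfinV hηV specializes_rfl
    obtain ⟨hd, -⟩ := he₁ (e₁.symm ⟨η, rfl⟩)
    rw [Equiv.apply_symm_apply] at hd
    let A := Y.presheaf.stalk (q η)
    let k := e₁.symm ⟨η, rfl⟩
    haveI : (k.asIdeal.comap (algebraMap A C)).IsMaximal :=
      Ideal.isMaximal_comap_of_isIntegral_of_isMaximal k.asIdeal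
    have hpos : (Module.length A (C ⧸ k.asIdeal)).toNat ≠ 0 := by
      let := Ideal.Quotient.field (k.asIdeal.comap (algebraMap A C))
      haveI : Module.Finite (A ⧸ k.asIdeal.comap (algebraMap A C)) (C ⧸ k.asIdeal) :=
        Module.Finite.of_restrictScalars_finite A _ _
      haveI : Nontrivial (C ⧸ k.asIdeal) := Ideal.Quotient.nontrivial_iff.2 k.isMaximal.ne_top
      rw [Module.length_eq_of_surjective (S := A) (R := A ⧸ k.asIdeal.comap (algebraMap A C))
        (M := C ⧸ k.asIdeal) Ideal.Quotient.mk_surjective, Module.length_eq_finrank, ENat.toNat_coe]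
      exact (Module.finrank_pos (R := A ⧸ k.asIdeal.comap (algebraMap A C)) (M := C ⧸ k.asIdeal)).ne'
    have hne : f.residueDegree (i η) ≠ 0 := by
      rw [← hres η, ← hd]
      exact hpos
    obtain ⟨d, hd1, hd2⟩ := hδ (i η)
    letI := (f.residueFieldMap (i η)).hom.toAlgebra
    haveI : Module.Finite (Y.residueField (f (i η))) (X.residueField (i η)) :=
      Module.finite_of_finrank_pos (Nat.pos_of_ne_zero hne)
    rw [trdeg_eq_zero] at hd1
    have : d = 0 := by exact_mod_cast hd1.symm
    omega
  refine ⟨hdim, ?_⟩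
  obtain ⟨C, _, _, _, hsupp, hlq, eC, heC⟩ := exists_semilocal q hV hfinV hζV (h := hfa)
  haveI : Fintype {w : W // q w = ζ} := hfinite.fintype
  haveI : Fintype (MaximalSpectrum C) := Fintype.ofEquiv _ eC.symm
  refine ⟨(Finset.univ : Finset {w : W // q w = ζ}).image fun w => i w.1, fun z => ?_, ?_⟩
  · simp only [Finset.mem_image, Finset.mem_univ, true_and]
    constructor
    · rintro ⟨⟨w, hw⟩, rfl⟩
      exact ⟨hgen w, hw⟩
    · rintro ⟨h1, h2⟩
      obtain ⟨w, rfl⟩ := hrange z h1
      exact ⟨⟨w, h2⟩, rfl⟩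
  rw [Finset.sum_image fun w _ w' _ h => Subtype.ext (i.isEmbedding.injective h)]
  let A := Y.presheaf.stalk ζ
  let N := (Cyc.closureStructureSheaf b).presheaf.stalk ζ
  have hcohb := Groth.KTheory.Devissage.isCoh_closureStructureSheaf b
  haveI := hcohb.1
  haveI : Module.Finite A N := Groth.QCohMod.finite_stalk _ hcohb.2 ζ
  have hcoha := Groth.KTheory.Devissage.isCoh_closureStructureSheaf (i η)
  haveI := hcoha.1
  have hcohfa := Groth.KTheory.Devissage.isCoh_closureStructureSheaf (f (i η))
  haveI := hcohfa.1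
  haveI : Module.Finite A ((Cyc.closureStructureSheaf (f (i η))).presheaf.stalk ζ) :=
    Groth.QCohMod.finite_stalk _ hcohfa.2 ζ
  have hNb : ∀ p ∈ Module.support A N, b ⤳ Y.fromSpecStalk ζ p := fun p hp =>
    specializes_of_le hbζ p ((closure_stalk hbζ).1 p hp)
  have hN : ∀ p ∈ Module.support A N, δY (Y.fromSpecStalk ζ p) ≤ δY b := fun p hp =>
    Groth.Cycles.delta_le_of_specializes hY.2.2 (hNb p hp)
  have hmeetY : ∀ p ∈ Module.support A N, (Groth.Cycles.genPrime hfa).asIdeal ≤ p.asIdeal →
      δY (Y.fromSpecStalk ζ p) ≤ δY ζ := fun p hp hp' => by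
    have hfp := specializes_of_le hfa p hp'
    obtain ⟨x, hx, hfx⟩ : ∃ x, x ∈ closure {i η} ∧ f x = Y.fromSpecStalk ζ p :=
      (f.isClosedMap _ (isClosed_closure (s := {i η}))).closure_subset
        (closure_mono (Set.singleton_subset_iff.mpr (Set.mem_image_of_mem f (subset_closure (Set.mem_singleton (i η)))))
          (specializes_iff_mem_closure.1 hfp))
    have h1 := hmeet x (specializes_iff_mem_closure.2 hx) (hfx.symm ▸ hNb p hp)
    have h2 := Groth.Cycles.delta_le_of_deltaCompat hδ x
    rw [hfx] at h2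
    omega
  haveI : IsNoetherianRing A := inferInstance
  have hfl : IsFiniteLength A (C ⊗[A] N) := Groth.Calg6.Diag.isFiniteLength_tensor C N fun p hpC hpN => by
    by_contra hne
    have hlt : p < IsLocalRing.closedPoint A :=
      lt_of_le_of_ne (IsLocalRing.le_maximalIdeal p.isPrime.ne_top) fun e => hne (congrArg PrimeSpectrum.asIdeal e)
    have hs : Y.fromSpecStalk ζ p ⤳ ζ := Scheme.range_fromSpecStalk.le ⟨p, rfl⟩
    have h1 := hmeetY p hpN (hsupp p hpC)
    have h2 := Groth.Cycles.eq_of_specializes_of_delta_le hY.2.2 hs h1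
    exact hlt.ne ((Y.fromSpecStalk ζ).isEmbedding.injective
      (h2.trans (Scheme.fromSpecStalk_closedPoint (X := Y) (x := ζ)).symm))
  haveI : IsRegularLocalRing A := by
    letI : Y.Over (Spec (CommRingCat.of K)) := ⟨gY⟩
    haveI : Smooth (Y ↘ Spec (CommRingCat.of K)) := inferInstanceAs (Smooth gY)
    exact Groth.VarietyBC.isRegularLocalRing_of_mem_smoothLocus (k := K) (by
      rw [Scheme.Hom.smoothLocus_eq_top]; trivial)
  obtain ⟨L, hL⟩ := Groth.CycInter.Euler.exists_tor_vanish (A := A)
  let G' := (Scheme.Modules.pullback f).obj (Cyc.closureStructureSheaf b)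
  let F := Cyc.closureStructureSheaf (i η)
  have hterm : ∀ w : W, q w = ζ → IntMult.chi (X.presheaf.stalk (i w)) (F.presheaf.stalk (i w)) (G'.presheaf.stalk (i w)) =
      IntMult.chi (X.presheaf.stalk (i w))
        (X.presheaf.stalk (i w) ⧸ (Groth.Cycles.genPrime (hgen w)).asIdeal) (G'.presheaf.stalk (i w)) := by
    intro w hw
    haveI : G'.IsQuasicoherent := Groth.QCohMod.isQCoh_pullback_obj f _
    haveI : Module.Finite (X.presheaf.stalk (i w)) (F.presheaf.stalk (i w)) :=
      Groth.QCohMod.finite_stalk _ hcoha.2 _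
    haveI : Module.Finite (X.presheaf.stalk (i w)) (G'.presheaf.stalk (i w)) :=
      Groth.QCohMod.finite_stalk _ (Groth.QCohMod.isFT_pullback f _ hcohb.2) _
    have hG : ∀ p ∈ Module.support (X.presheaf.stalk (i w)) (G'.presheaf.stalk (i w)),
        b ⤳ f (X.fromSpecStalk (i w) p) := fun p hp => by
      have hp' : X.fromSpecStalk (i w) p ⤳ i w := Scheme.range_fromSpecStalk.le ⟨p, rfl⟩
      rw [← Groth.Cycles.genPrime_fromSpecStalk p hp', Groth.Calg6.StalkSupport.genPrime_mem_support_iff] at hp
      have hn' : Nontrivial ((Cyc.closureStructureSheaf b).presheaf.stalk (f (X.fromSpecStalk (i w) p))) := by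
        by_contra hcon
        have := not_nontrivial_iff_subsingleton.mp hcon
        have h0 := Groth.Cycles.length_stalk_pullback f (Cyc.closureStructureSheaf b) (X.fromSpecStalk (i w) p)
        rw [(Module.length_eq_zero (R := Y.presheaf.stalk (f (X.fromSpecStalk (i w) p)))), zero_mul,
          Module.length_eq_zero_iff] at h0
        exact not_nontrivial_iff_subsingleton.mpr h0 hp
      exact specializes_iff_mem_closure.2 (Groth.KTheory.Devissage.support_closureStructureSheaf_subset b
        (not_subsingleton_iff_nontrivial.2 hn'))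
    have hw' := hδw w hw
    rw [chi_eq_lq_mul gX hX hδX hn (hgen w) (δY b + e) (F.presheaf.stalk (i w)) (G'.presheaf.stalk (i w))
      (closure_stalk (hgen w)).1
      (fun p hp => by
        have := hle (X.fromSpecStalk (i w) p)
        have := Groth.Cycles.delta_le_of_specializes hY.2.2 (hG p hp)
        omega)
      (by omega)
      (fun p hp hp' => by
        have := hmeet _ (specializes_of_le (hgen w) p hp') (hG p hp)
        omega),
      (closure_stalk (hgen w)).2, Nat.cast_one, one_mul]
  have hmain := chi_eq_sum (A := A) C N hfl L (fun k hk => hL C N k hk) (fun k => q.residueDegree (eC k).1)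
    (fun k => IntMult.chi (X.presheaf.stalk (i (eC k).1)) (F.presheaf.stalk (i (eC k).1))
      (G'.presheaf.stalk (i (eC k).1)))
    (fun k => (heC k).1.symm)
    (fun k => by
      obtain ⟨-, g, hg1, hg2⟩ := heC k
      obtain ⟨C', i1, i2, i3, i4, i5, B, j1, j2, j3, j4, j5, hs, hc⟩ := exists_local_term i f
        (Cyc.closureStructureSheaf b) ζ (eC k).1 (eC k).2 (hgen _) C k.asIdeal g hg1 hg2
      exact ⟨C', i1, i2, i3, i4, i5, B, j1, j2, j3, j4, j5, hs, (hterm _ (eC k).2).trans hc⟩)
  have hsum : ∑ w : {w : W // q w = ζ}, (f.residueDegree (i w.1) : ℤ) *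
      IntMult.chi (X.presheaf.stalk (i w.1)) (F.presheaf.stalk (i w.1)) (G'.presheaf.stalk (i w.1)) =
      IntMult.chi A C N := by
    rw [hmain]
    refine (Fintype.sum_equiv eC _ _ fun k => ?_).symm
    simp only [hres]
  rw [hsum, chi_eq_lq_mul gY hY hδY hm hfa (δY b) C N hsupp hN (by omega) hmeetY, hlq, hres η,
    chi_eq_lq_mul gY hY hδY hm hfa (δY b) ((Cyc.closureStructureSheaf (f (i η))).presheaf.stalk ζ) N
      (closure_stalk hfa).1 hN (by omega) hmeetY,
    (closure_stalk hfa).2, Nat.cast_one, one_mul]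

end Groth.Calg6.ProjFormula
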