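import Groth.Agent.Calg6.ProjFormula.Semilocal
import Groth.Agent.Cycles.NormScheme
import Groth.Agent.Cycles.StalkPrimes
import Mathlib.AlgebraicGeometry.Morphisms.Finite

/-!
The semi-local algebra of a point over which a morphism of schemes is finite.
-/

set_option autoImplicit false
set_option backward.isDefEq.respectTransparency false
set_option linter.style.haveILetI false

universe u

open CategoryTheory AlgebraicGeometry TensorProduct IsLocalRing

namespace Groth.Calg6.ProjFormula

attribute [local instance] Algebra.TensorProduct.rightAlgebra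

variable {W Y : Scheme.{u}} (q : W ⟶ Y)

omit q in
theorem primeIdealOf_eq {V : Y.Opens} (hV : IsAffineOpen V) {y : Y} (hy : y ∈ V) :
    (hV.primeIdealOf ⟨y, hy⟩).asIdeal = (maximalIdeal (Y.presheaf.stalk y)).comap (Y.presheaf.germ V y hy).hom := by
  rw [IsAffineOpen.primeIdealOf_eq_map_closedPoint]
  rfl

theorem comap_primeIdealOf {V : Y.Opens} (hV : IsAffineOpen V) (hU : IsAffineOpen (q ⁻¹ᵁ V)) (w : W)
    (hw : q w ∈ V) :
    (hU.primeIdealOf ⟨w, hw⟩).asIdeal.comap (q.app V).hom = (hV.primeIdealOf ⟨q w, hw⟩).asIdeal := by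
  rw [primeIdealOf_eq hU, primeIdealOf_eq hV, Ideal.comap_comap,
    ← IsLocalRing.maximalIdeal_comap (q.stalkMap w).hom, Ideal.comap_comap]
  congr 1
  rw [← CommRingCat.hom_comp, ← CommRingCat.hom_comp, Scheme.Hom.germ_stalkMap]

variable [IsIntegral W]

/-- The semi-local algebra at a point over which the morphism is finite. -/
theorem exists_semilocal {V : Y.Opens} (hV : IsAffineOpen V) (hfin : IsFinite (q ∣_ V)) {y : Y} (hyV : y ∈ V)
    (h : q (genericPoint W) ⤳ y) :
    ∃ (C : Type u) (_ : CommRing C) (_ : Algebra (Y.presheaf.stalk y) C)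
      (_ : Module.Finite (Y.presheaf.stalk y) C),
      (∀ p ∈ Module.support (Y.presheaf.stalk y) C, (Groth.Cycles.genPrime h).asIdeal ≤ p.asIdeal) ∧
      (Groth.MilnorKLambda.Per.lq (Groth.Cycles.genPrime h).asIdeal C).toNat = q.residueDegree (genericPoint W) ∧
      ∃ e : MaximalSpectrum C ≃ {w : W // q w = y}, ∀ n : MaximalSpectrum C,
        (Module.length (Y.presheaf.stalk y) (C ⧸ n.asIdeal)).toNat = q.residueDegree (e n).1 ∧
        ∃ g : C →+* W.presheaf.stalk (e n).1,
          (letI := g.toAlgebra; IsLocalization.AtPrime (W.presheaf.stalk (e n).1) n.asIdeal) ∧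
          g.comp (algebraMap (Y.presheaf.stalk y) C) =
            (q.stalkMap (e n).1).hom.comp (Y.presheaf.stalkSpecializes (specializes_of_eq (e n).2)).hom := by
  classical
  obtain ⟨hU, hfinR⟩ := Groth.Cycles.finite_app_of_isFinite_restrict q V hV hfin
  set U := q ⁻¹ᵁ V with hUdef
  set η := genericPoint W with hηdef
  have hηV : q η ∈ V := h.mem_open V.2 hyV
  haveI : Nonempty U := ⟨⟨η, hηV⟩⟩
  haveI : Nonempty U.toScheme := ⟨⟨η, hηV⟩⟩
  let R := Γ(Y, V)
  let S := Γ(W, U)
  letI : Algebra R S := (q.app V).hom.toAlgebra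
  haveI : Module.Finite R S := hfinR
  haveI : IsDomain S := inferInstance
  -- the stalks downstairs
  let A := Y.presheaf.stalk y
  let p := (hV.primeIdealOf ⟨y, hyV⟩).asIdeal
  letI : Algebra R A := (Y.presheaf.germ V y hyV).hom.toAlgebra
  haveI : IsLocalization.AtPrime A p := hV.isLocalization_stalk ⟨y, hyV⟩
  let pη := (hV.primeIdealOf ⟨q η, hηV⟩).asIdeal
  let A' := Y.presheaf.stalk (q η)
  letI : Algebra R A' := (Y.presheaf.germ V (q η) hηV).hom.toAlgebra
  haveI : IsLocalization.AtPrime A' pη := hV.isLocalization_stalk ⟨q η, hηV⟩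
  letI : Algebra A A' := (Y.presheaf.stalkSpecializes h).hom.toAlgebra
  haveI : IsLocalization.AtPrime A' (Groth.Cycles.genPrime h).asIdeal := Groth.Cycles.isLocalization_stalkSpecializes h
  haveI : IsScalarTower R A A' := IsScalarTower.of_algebraMap_eq fun r =>
    (Y.presheaf.germ_stalkSpecializes_apply hyV h r).symm
  -- the generic point upstairs
  have hbot : (hU.primeIdealOf ⟨η, hηV⟩).asIdeal = ⊥ := by
    haveI := hU.fromSpec
    have h1 : hU.primeIdealOf ⟨η, hηV⟩ = genericPoint (Spec Γ(W, U)) := by
      apply hU.fromSpec.isOpenEmbedding.injective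
      haveI : IsOpenImmersion hU.fromSpec := hU.isOpenImmersion_fromSpec
      rw [hU.fromSpec_primeIdealOf, genericPoint_eq_of_isOpenImmersion hU.fromSpec]
    rw [h1, genericPoint_eq_bot_of_affine]
    rfl
  let L := W.presheaf.stalk η
  letI : Algebra S L := (W.presheaf.germ U η hηV).hom.toAlgebra
  haveI : IsLocalization.AtPrime L (⊥ : Ideal S) := by
    have := hU.isLocalization_stalk ⟨η, hηV⟩
    simp only [hbot] at this
    exact this
  letI : Algebra R L := ((algebraMap S L).comp (algebraMap R S)).toAlgebra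
  haveI : IsScalarTower R S L := IsScalarTower.of_algebraMap_eq fun _ => rfl
  letI : Algebra A' L := (q.stalkMap η).hom.toAlgebra
  haveI : IsScalarTower R A' L := IsScalarTower.of_algebraMap_eq fun r =>
    (Scheme.Hom.germ_stalkMap_apply q V η hηV r).symm
  have hL : IsField L := Field.toIsField W.functionField
  have hker : RingHom.ker (algebraMap R S) = pη := by
    have h1 := comap_primeIdealOf q hV hU η hηV
    rw [hbot] at h1
    exact h1
  -- points and maximal ideals
  let C := A ⊗[R] S
  have hmem : ∀ w : {w : W // q w = y}, q w.1 ∈ V := fun w => w.2.symm ▸ hyV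
  let P : {w : W // q w = y} → Ideal S := fun w => (hU.primeIdealOf ⟨w.1, hmem w⟩).asIdeal
  have hP : ∀ w, (P w).comap (algebraMap R S) = p := fun w => by
    obtain ⟨w, rfl⟩ := w
    exact comap_primeIdealOf q hV hU w hyV
  have key : ∀ w : {w : W // q w = y}, ∃ n : MaximalSpectrum C, n.asIdeal.comap (algebraMap S C) = P w ∧
      (Module.length A (C ⧸ n.asIdeal)).toNat = q.residueDegree w.1 ∧
      ∃ g : C →+* W.presheaf.stalk w.1,
        (letI := g.toAlgebra; IsLocalization.AtPrime (W.presheaf.stalk w.1) n.asIdeal) ∧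
        g.comp (algebraMap A C) =
          (q.stalkMap w.1).hom.comp (Y.presheaf.stalkSpecializes (specializes_of_eq w.2)).hom := fun w => by
    let T := W.presheaf.stalk w.1
    letI : Algebra S T := (W.presheaf.germ U w.1 (hmem w)).hom.toAlgebra
    haveI : IsLocalization.AtPrime T (P w) := hU.isLocalization_stalk ⟨w.1, hmem w⟩
    letI : Algebra R T := ((algebraMap S T).comp (algebraMap R S)).toAlgebra
    haveI : IsScalarTower R S T := IsScalarTower.of_algebraMap_eq fun _ => rfl
    letI : Algebra A T :=
      ((q.stalkMap w.1).hom.comp (Y.presheaf.stalkSpecializes (specializes_of_eq w.2)).hom).toAlgebra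
    haveI : IsScalarTower R A T := IsScalarTower.of_algebraMap_eq fun r => by
      change W.presheaf.germ U w.1 (hmem w) (q.app V r) = q.stalkMap w.1
        (Y.presheaf.stalkSpecializes (specializes_of_eq w.2) (Y.presheaf.germ V y hyV r))
      rw [TopCat.Presheaf.germ_stalkSpecializes_apply, Scheme.Hom.germ_stalkMap_apply]
    obtain ⟨n, hn, hlen, g, hg⟩ := exists_maximal p A (P w) (hP w) T
    refine ⟨n, hn, ?_, g.toRingHom, hg, g.comp_algebraMap⟩
    rw [hlen, Groth.Cycles.toNat_length_residueField q w.1 y w.2]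
  choose φ hφ hφdeg hφg using key
  have hbij : Function.Bijective φ := by
    refine ⟨fun w w' hw => ?_, fun n => ?_⟩
    · have : P w = P w' := by rw [← hφ w, ← hφ w', hw]
      have h2 := congrArg hU.fromSpec (PrimeSpectrum.ext this :
        hU.primeIdealOf ⟨w.1, hmem w⟩ = hU.primeIdealOf ⟨w'.1, hmem w'⟩)
      exact Subtype.ext (by simpa only [IsAffineOpen.fromSpec_primeIdealOf] using h2)
    · let P₀ : PrimeSpectrum S := ⟨n.asIdeal.comap (algebraMap S C), inferInstance⟩
      have hw : hU.fromSpec P₀ ∈ U := hU.range_fromSpec.le ⟨P₀, rfl⟩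
      have hPeq : hU.primeIdealOf ⟨_, hw⟩ = P₀ :=
        hU.fromSpec.isOpenEmbedding.injective (hU.fromSpec_primeIdealOf _)
      have hqw : q (hU.fromSpec P₀) = y := by
        have h1 := comap_primeIdealOf q hV hU (hU.fromSpec P₀) hw
        rw [hPeq] at h1
        have h2 : hV.primeIdealOf ⟨q (hU.fromSpec P₀), hw⟩ = hV.primeIdealOf ⟨y, hyV⟩ :=
          PrimeSpectrum.ext (h1.symm.trans (comap_comap_maximal p A n))
        have h3 := congrArg hV.fromSpec h2
        simpa only [IsAffineOpen.fromSpec_primeIdealOf] using h3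
      refine ⟨⟨_, hqw⟩, maximal_ext p A ?_⟩
      rw [hφ]
      exact congrArg PrimeSpectrum.asIdeal hPeq
  let e : MaximalSpectrum C ≃ {w : W // q w = y} := (Equiv.ofBijective φ hbij).symm
  have he : ∀ n, φ (e n) = n := fun n => (Equiv.ofBijective φ hbij).apply_symm_apply n
  refine ⟨C, inferInstance, inferInstance, Module.Finite.base_change R A S, fun t ht => ?_, ?_, e, fun n => ?_⟩
  · have h1 : pη ≤ t.asIdeal.comap (algebraMap R A) := hker ▸ ker_le_of_mem_support A t ht
    have h2 : (Groth.Cycles.genPrime h).asIdeal.comap (algebraMap R A) = pη := by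
      rw [← IsLocalization.AtPrime.under_maximalIdeal A' pη,
        ← IsLocalization.AtPrime.under_maximalIdeal A' (Groth.Cycles.genPrime h).asIdeal, Ideal.under_def,
        Ideal.under_def, Ideal.comap_comap, ← IsScalarTower.algebraMap_eq]
    have h3 := Ideal.map_mono (f := algebraMap R A) (h2.le.trans h1)
    rwa [IsLocalization.map_comap p.primeCompl A, IsLocalization.map_comap p.primeCompl A] at h3
  · rw [lq_tensor A (Groth.Cycles.genPrime h).asIdeal A', length_generic pη A' hker L hL]
    have h1 := Groth.Cycles.toNat_length_residueField q η (q η) rfl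
    have e₀ : (q.stalkMap η).hom.comp (Y.presheaf.stalkSpecializes (specializes_of_eq (rfl : q η = q η))).hom =
        (q.stalkMap η).hom := by
      rw [TopCat.Presheaf.stalkSpecializes_refl]
      rfl
    have key : ∀ φ : A' →+* L, φ = (q.stalkMap η).hom →
        (letI := φ.toAlgebra; (Module.length A' (ResidueField L)).toNat) = q.residueDegree η →
        (Module.length A' (ResidueField L)).toNat = q.residueDegree η := by
      rintro φ rfl hφ
      exact hφ
    exact key _ e₀ h1
  · have hd := hφdeg (e n)
    have hg := hφg (e n)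
    rw [he n] at hd
    refine ⟨hd, ?_⟩
    have key : ∀ m : MaximalSpectrum C, m = n → (∃ g : C →+* W.presheaf.stalk (e n).1,
        (letI := g.toAlgebra; IsLocalization.AtPrime (W.presheaf.stalk (e n).1) m.asIdeal) ∧
        g.comp (algebraMap A C) =
          (q.stalkMap (e n).1).hom.comp (Y.presheaf.stalkSpecializes (specializes_of_eq (e n).2)).hom) →
        ∃ g : C →+* W.presheaf.stalk (e n).1,
        (letI := g.toAlgebra; IsLocalization.AtPrime (W.presheaf.stalk (e n).1) n.asIdeal) ∧
        g.comp (algebraMap A C) =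
          (q.stalkMap (e n).1).hom.comp (Y.presheaf.stalkSpecializes (specializes_of_eq (e n).2)).hom := by
      rintro m rfl hm
      exact hm
    exact key _ (he n) hg

end Groth.Calg6.ProjFormula
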