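import Groth.Agent.CycInter.TorLocal
import Groth.Agent.Calg6.DevissageSum
import Mathlib.RingTheory.Localization.BaseChange
import Mathlib.RingTheory.Localization.LocalizationLocalization
import Mathlib.RingTheory.Ideal.GoingUp

/-!
The semi-local algebra of a finite extension over a localisation of the base.
-/

set_option autoImplicit false
set_option backward.isDefEq.respectTransparency false

universe u

open TensorProduct IsLocalRing

namespace Groth.Calg6.ProjFormula

variable {R : Type u} [CommRing R] {S : Type u} [CommRing S] [Algebra R S] [Module.Finite R S]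
  (p : Ideal R) [p.IsPrime] (A : Type u) [CommRing A] [Algebra R A] [IsLocalization.AtPrime A p]

attribute [local instance] Algebra.TensorProduct.rightAlgebra

omit [Module.Finite R S] in
theorem isLocalization_tensor :
    IsLocalization (Algebra.algebraMapSubmonoid S p.primeCompl) (A ⊗[R] S) := by
  rw [← isLocalizedModule_iff_isLocalization]
  exact inferInstanceAs (IsLocalizedModule p.primeCompl
    (IsScalarTower.toAlgHom R S (A ⊗[R] S) : S →ₗ[R] A ⊗[R] S))

theorem comap_comap_maximal (n : MaximalSpectrum (A ⊗[R] S)) :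
    (n.asIdeal.comap (algebraMap S (A ⊗[R] S))).comap (algebraMap R S) = p := by
  haveI := IsLocalization.AtPrime.isLocalRing A p
  haveI : Module.Finite A (A ⊗[R] S) := Module.Finite.base_change R A S
  rw [Ideal.comap_comap, ← IsScalarTower.algebraMap_eq R S (A ⊗[R] S),
    IsScalarTower.algebraMap_eq R A (A ⊗[R] S), ← Ideal.comap_comap,
    IsLocalRing.eq_maximalIdeal (Ideal.isMaximal_comap_of_isIntegral_of_isMaximal (R := A) n.asIdeal)]
  exact IsLocalization.AtPrime.under_maximalIdeal A p

include p in
omit [Module.Finite R S] in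
theorem maximal_ext {n n' : MaximalSpectrum (A ⊗[R] S)}
    (h : n.asIdeal.comap (algebraMap S (A ⊗[R] S)) = n'.asIdeal.comap (algebraMap S (A ⊗[R] S))) : n = n' := by
  haveI := isLocalization_tensor (S := S) p A
  refine MaximalSpectrum.ext ?_
  rw [← IsLocalization.map_comap (Algebra.algebraMapSubmonoid S p.primeCompl) (A ⊗[R] S) n.asIdeal,
    ← IsLocalization.map_comap (Algebra.algebraMapSubmonoid S p.primeCompl) (A ⊗[R] S) n'.asIdeal]
  exact congrArg _ h

/-- The maximal ideal of the semi-local algebra over a prime over the centre. -/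
theorem exists_maximal (P : Ideal S) [P.IsPrime] (hP : P.comap (algebraMap R S) = p) (T : Type u) [CommRing T]
    [IsLocalRing T] [Algebra S T] [IsLocalization.AtPrime T P] [Algebra R T] [IsScalarTower R S T] [Algebra A T]
    [IsScalarTower R A T] :
    ∃ n : MaximalSpectrum (A ⊗[R] S), n.asIdeal.comap (algebraMap S (A ⊗[R] S)) = P ∧
      Module.length A ((A ⊗[R] S) ⧸ n.asIdeal) = Module.length A (ResidueField T) ∧
      ∃ g : A ⊗[R] S →ₐ[A] T, letI := g.toRingHom.toAlgebra; IsLocalization.AtPrime T n.asIdeal := by
  haveI := IsLocalization.AtPrime.isLocalRing A p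
  haveI : Module.Finite A (A ⊗[R] S) := Module.Finite.base_change R A S
  haveI := isLocalization_tensor (S := S) p A
  let g : A ⊗[R] S →ₐ[A] T :=
    Algebra.TensorProduct.lift (Algebra.ofId A T) (IsScalarTower.toAlgHom R S T) fun a b => Commute.all _ _
  have hdisj : Disjoint (Algebra.algebraMapSubmonoid S p.primeCompl : Set S) P := by
    rw [Set.disjoint_left]
    rintro _ ⟨r, hr, rfl⟩ hr'
    exact hr (hP ▸ hr')
  set n := P.map (algebraMap S (A ⊗[R] S)) with hn
  haveI hnp : n.IsPrime := IsLocalization.isPrime_of_isPrime_disjoint _ _ _ inferInstance hdisj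
  have hcomap : n.comap (algebraMap S (A ⊗[R] S)) = P :=
    IsLocalization.comap_map_of_isPrime_disjoint _ _ inferInstance hdisj
  have hnmax : n.IsMaximal := by
    refine Ideal.IsIntegral.isMaximal_of_isMaximal_comap (R := A) n ?_
    have h1 : (n.comap (algebraMap A (A ⊗[R] S))).comap (algebraMap R A) = p := by
      rw [Ideal.comap_comap, ← IsScalarTower.algebraMap_eq, IsScalarTower.algebraMap_eq R S (A ⊗[R] S),
        ← Ideal.comap_comap, hcomap, hP]
    rw [← IsLocalization.map_comap p.primeCompl A (n.comap (algebraMap A (A ⊗[R] S)))]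
    change (Ideal.map (algebraMap R A) ((n.comap (algebraMap A (A ⊗[R] S))).comap (algebraMap R A))).IsMaximal
    rw [h1, IsLocalization.AtPrime.map_eq_maximalIdeal p A]
    exact maximalIdeal.isMaximal A
  letI := g.toRingHom.toAlgebra
  haveI : IsScalarTower S (A ⊗[R] S) T := IsScalarTower.of_algebraMap_eq fun s => by
    change _ = g ((1 : A) ⊗ₜ[R] s)
    simp [g]
  have hloc : IsLocalization.AtPrime T n := by
    have hle : Algebra.algebraMapSubmonoid S p.primeCompl ≤ P.primeCompl := fun s hs =>
      Set.disjoint_left.1 hdisj hs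
    haveI := IsLocalization.isLocalization_of_submonoid_le (A ⊗[R] S) T
      (Algebra.algebraMapSubmonoid S p.primeCompl) P.primeCompl hle
    refine IsLocalization.isLocalization_of_is_exists_mul_mem T
      (P.primeCompl.map (algebraMap S (A ⊗[R] S))) n.primeCompl ?_ fun x => ?_
    · rintro _ ⟨s, hs, rfl⟩ hs'
      exact hs (hcomap ▸ hs')
    · obtain ⟨⟨s, t⟩, e⟩ := IsLocalization.surj (Algebra.algebraMapSubmonoid S p.primeCompl) (x : A ⊗[R] S)
      refine ⟨algebraMap S _ (t : S), s, fun hs => ?_, ((mul_comm _ _).trans e).symm⟩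
      have : (x : A ⊗[R] S) * algebraMap S _ (t : S) ∈ n := by
        rw [e]; exact Ideal.mem_map_of_mem _ hs
      refine x.2 ((hnp.mem_or_mem this).resolve_right fun ht => ?_)
      exact Set.disjoint_left.1 hdisj t.2 (hcomap ▸ ht)
  refine ⟨⟨n, hnmax⟩, hcomap, ?_, g, hloc⟩
  haveI := hloc
  haveI := hnmax
  let e := IsLocalization.AtPrime.equivQuotMaximalIdeal n T
  refine LinearEquiv.length_eq { e with map_smul' := fun a x => ?_ }
  obtain ⟨x, rfl⟩ := Ideal.Quotient.mk_surjective x
  change e (Ideal.Quotient.mk n (a • x)) = a • e (Ideal.Quotient.mk n x)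
  rw [IsLocalization.AtPrime.equivQuotMaximalIdeal_apply_mk, IsLocalization.AtPrime.equivQuotMaximalIdeal_apply_mk]
  change Ideal.Quotient.mk _ (g (a • x)) = a • Ideal.Quotient.mk _ (g x)
  rw [map_smul]
  rfl

/-- The support of the semi-local algebra. -/
theorem ker_le_of_mem_support (q : PrimeSpectrum A) (hq : q ∈ Module.support A (A ⊗[R] S)) :
    RingHom.ker (algebraMap R S) ≤ q.asIdeal.comap (algebraMap R A) := fun r hr => by
  rw [Ideal.mem_comap]
  refine Module.annihilator_le_of_mem_support hq (Module.mem_annihilator.2 fun z => ?_)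
  induction z using TensorProduct.induction_on with
  | zero => exact smul_zero _
  | add x y hx hy => rw [smul_add, hx, hy, add_zero]
  | tmul a s =>
    rw [TensorProduct.smul_tmul', smul_eq_mul, ← Algebra.smul_def, TensorProduct.smul_tmul, Algebra.smul_def,
      RingHom.mem_ker.1 hr, zero_mul, TensorProduct.tmul_zero]

omit [Module.Finite R S] in
/-- Local lengths of the semi-local algebra. -/
theorem lq_tensor (q : Ideal A) [q.IsPrime] (A' : Type u) [CommRing A'] [Algebra A A'] [IsLocalization.AtPrime A' q]
    [Algebra R A'] [IsScalarTower R A A'] :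
    Groth.MilnorKLambda.Per.lq q (A ⊗[R] S) = Module.length A' (A' ⊗[R] S) := by
  rw [Groth.CycInter.TorLocal.lq_eq_length A A' q]
  exact (AlgebraTensorModule.cancelBaseChange R A A' A' S).length_eq

/-- Over the generic point the semi-local algebra is the function field. -/
theorem length_generic [IsDomain S] (hp : RingHom.ker (algebraMap R S) = p) (L : Type u) [CommRing L]
    [IsLocalRing L] [Algebra S L] [IsLocalization.AtPrime L (⊥ : Ideal S)] [Algebra R L] [IsScalarTower R S L]
    [Algebra A L] [IsScalarTower R A L] (hL : IsField L) :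
    Module.length A (A ⊗[R] S) = Module.length A (ResidueField L) := by
  haveI := IsLocalization.AtPrime.isLocalRing A p
  haveI := isLocalization_tensor (S := S) p A
  haveI : Algebra.IsIntegral R S := Algebra.IsIntegral.of_finite R S
  obtain ⟨n, hn, -, g, hg⟩ := exists_maximal p A (⊥ : Ideal S) hp L
  have huniq : ∀ n' : MaximalSpectrum (A ⊗[R] S), n' = n := fun n' => maximal_ext p A (by
    rw [hn]
    by_contra hne
    have hlt := Ideal.IsIntegral.comap_lt_comap (R := R) (bot_lt_iff_ne_bot.2 hne)
    rw [comap_comap_maximal p A n'] at hlt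
    exact hlt.ne hp)
  letI := g.toRingHom.toAlgebra
  haveI := hg
  have hu : n.asIdeal.primeCompl ≤ IsUnit.submonoid (A ⊗[R] S) := fun x hx => by
    by_contra hxu
    obtain ⟨m, hm, hle⟩ := Ideal.exists_le_maximal _ (Ideal.span_singleton_ne_top hxu)
    refine hx ?_
    rw [← congrArg MaximalSpectrum.asIdeal (huniq ⟨m, hm⟩)]
    exact hle (Ideal.mem_span_singleton_self x)
  let e : A ⊗[R] S ≃+* L := (IsLocalization.atUnits (A ⊗[R] S) n.asIdeal.primeCompl (S := L) hu).toRingEquiv
  have he : Function.Bijective g := by
    have : (⇑g : A ⊗[R] S → L) = e := funext fun x =>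
      ((IsLocalization.atUnits (A ⊗[R] S) n.asIdeal.primeCompl (S := L) hu).commutes x).symm
    rw [this]
    exact e.bijective
  have hres : Function.Bijective (IsScalarTower.toAlgHom A L (ResidueField L)) :=
    ⟨(RingHom.injective_iff_ker_eq_bot _).2 (by
      rw [show RingHom.ker (IsScalarTower.toAlgHom A L (ResidueField L)) = maximalIdeal L from
        IsLocalRing.ker_residue]
      exact isField_iff_maximalIdeal_eq.1 hL), Ideal.Quotient.mk_surjective⟩
  exact ((AlgEquiv.ofBijective g he).toLinearEquiv.trans (AlgEquiv.ofBijective _ hres).toLinearEquiv).length_eq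

end Groth.Calg6.ProjFormula
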